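import Groth.Agent.SGA1Q.Properties
import Groth.Agent.SGA1Q.BaseChange

/-! Quotients in stages. -/

universe u

open CategoryTheory CategoryTheory.Limits AlgebraicGeometry

namespace Groth.Agent.ZH85.Quot

variable {X M Y : Scheme.{u}}

theorem appLE_congr_hom {A B : Scheme.{u}} {m m' : A ⟶ B} (h : m = m') (U : B.Opens) (V : A.Opens)
    (e : V ≤ m ⁻¹ᵁ U) (e' : V ≤ m' ⁻¹ᵁ U) : m.appLE U V e = m'.appLE U V e' := by
  subst h; rfl

theorem comp_app_apply (q : X ⟶ M) (r : M ⟶ Y) (U : Y.Opens) (u : Γ(Y, U)) :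
    ((q ≫ r).app U).hom u = (q.app (r ⁻¹ᵁ U)).hom ((r.app U).hom u) := rfl

/-- An equivariant morphism commutes with the action on sections. -/
theorem act_app (q : X ⟶ M) (a : X ⟶ X) (b : M ⟶ M) (h : a ≫ q = q ≫ b) (W : M.Opens)
    (e : q ⁻¹ᵁ W ≤ a ⁻¹ᵁ (q ⁻¹ᵁ W)) (e' : W ≤ b ⁻¹ᵁ W) (s : Γ(M, W)) :
    (a.appLE (q ⁻¹ᵁ W) (q ⁻¹ᵁ W) e).hom ((q.app W).hom s) = (q.app W).hom ((b.appLE W W e').hom s) := by
  rw [Scheme.Hom.app_eq_appLE, ← RingHom.comp_apply, ← CommRingCat.hom_comp, Scheme.Hom.appLE_comp_appLE,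
    ← RingHom.comp_apply, ← CommRingCat.hom_comp, Scheme.Hom.appLE_comp_appLE,
    appLE_congr_hom h]

/-- **Quotient by a normal subgroup.** -/
theorem isQuot_right {G H G' : Type u} [Group G] [Group H] [Finite H] [Group G'] {ρ : G →* Aut X}
    {ρH : H →* Aut X} {q : X ⟶ M} {r : M ⟶ Y} (hq : SGA1.IsQuot ρH q) (hp : SGA1.IsQuot ρ (q ≫ r))
    {ρ' : G' →* Aut M} (c : G →* G') (hc : Function.Surjective c)
    (heq : ∀ g, (ρ g).hom ≫ q = q ≫ (ρ' (c g)).hom) : SGA1.IsQuot ρ' r := by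
  have hinv : ∀ g', (ρ' g').hom ≫ r = r := fun g' => by
    obtain ⟨g, rfl⟩ := hc g'
    refine (SGA1Q.desc_existsUnique_isQuot hq (q ≫ r) (fun h => by rw [← Category.assoc, hq.inv h])).unique ?_ rfl
    show q ≫ (ρ' (c g)).hom ≫ r = q ≫ r
    rw [← Category.assoc, ← heq, Category.assoc, hp.inv g]
  refine ⟨(SGA1Q.isAffineHom_iff_of_isQuot hq rfl).mp hp.affine, hinv, fun U => ?_, fun U s => ⟨?_, fun hs => ?_⟩⟩
  · exact fun a b h => hp.injective U (by rw [comp_app_apply, comp_app_apply, h])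
  · rintro ⟨t, rfl⟩ g'
    exact SGA1Q.appLE_app_of_inv hinv U g' t
  · obtain ⟨u, hu⟩ := (hp.range_iff U ((q.app (r ⁻¹ᵁ U)).hom s)).2 fun g => by
      refine (act_app q _ _ (heq g) (r ⁻¹ᵁ U) _ (SGA1.preimage_le_of_inv ρ' r hinv (c g) U) s).trans ?_
      rw [hs (c g)]
    refine ⟨u, hq.injective _ ?_⟩
    rw [← hu, comp_app_apply]

/-- **Quotient of a quotient.** -/
theorem isQuot_comp {G H T : Type u} [Group G] [Group H] [Group T] {ρ : T →* Aut X} {ρG : G →* Aut X}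
    {q : X ⟶ M} {r : M ⟶ Y} {ρH : H →* Aut M} (hq : SGA1.IsQuot ρG q) (hr : SGA1.IsQuot ρH r)
    (c : T →* H) (hc : Function.Surjective c) (hker : ∀ g, ∃ t, ρ t = ρG g)
    (heq : ∀ t, (ρ t).hom ≫ q = q ≫ (ρH (c t)).hom) : SGA1.IsQuot ρ (q ≫ r) := by
  have hinv : ∀ t, (ρ t).hom ≫ q ≫ r = q ≫ r := fun t => by
    rw [← Category.assoc, heq, Category.assoc, hr.inv]
  haveI := hq.affine; haveI := hr.affine
  refine ⟨inferInstance, hinv, fun U => ?_, fun U s => ⟨?_, fun hs => ?_⟩⟩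
  · exact fun a b h => hr.injective U (hq.injective _ (by rwa [comp_app_apply, comp_app_apply] at h))
  · rintro ⟨t, rfl⟩ g
    exact SGA1Q.appLE_app_of_inv hinv U g t
  · obtain ⟨m, hm⟩ := (hq.range_iff (r ⁻¹ᵁ U) s).2 fun g => by
      obtain ⟨t, ht⟩ := hker g
      refine Eq.trans ?_ (hs t)
      rw [appLE_congr_hom (congrArg Iso.hom ht.symm)]
      rfl
    obtain ⟨u, hu⟩ := (hr.range_iff U m).2 fun h => by
      obtain ⟨t, rfl⟩ := hc h
      refine hq.injective (r ⁻¹ᵁ U) ?_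
      rw [← act_app q _ _ (heq t) (r ⁻¹ᵁ U) (SGA1.preimage_le_of_inv ρ (q ≫ r) hinv t U)
        (SGA1.preimage_le_of_inv ρH r hr.inv (c t) U) m, hm]
      exact hs t
    refine ⟨u, ?_⟩
    rw [comp_app_apply, hu]
    exact hm

end Groth.Agent.ZH85.Quot
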