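import Groth.Agent.SGA1Q.GeomTrans
import Groth.Agent.SGA1Q.Residue
import Mathlib.AlgebraicGeometry.Morphisms.UniversallyInjective

/-! Geometric points of quotients by finite groups. -/

universe u

open CategoryTheory CategoryTheory.Limits AlgebraicGeometry

namespace Groth.Agent.ZH85.Quot

variable {X Y : Scheme.{u}} {G : Type u} [Group G] [Finite G] {ρ : G →* Aut X} {p : X ⟶ Y}

/-- Geometric points with the same image in a quotient are conjugate. -/
theorem exists_translate (hp : SGA1.IsQuot ρ p) {Ω : Type u} [Field Ω] [IsAlgClosed Ω]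
    (τ₁ τ₂ : Spec (CommRingCat.of Ω) ⟶ X) (h : τ₁ ≫ p = τ₂ ≫ p) : ∃ g : G, τ₁ ≫ (ρ g).hom = τ₂ := by
  refine SGA1Q.geomTransitive p ρ hp.inv (fun a b h => (SGA1Q.orbit_iff hp a b).1 h)
    (fun a => (SGA1Q.normal_and_stabilizer_surjective hp a).1) (fun a σ hσ => ?_) Ω τ₁ τ₂ h
  obtain ⟨g, e, he⟩ := (SGA1Q.normal_and_stabilizer_surjective hp a).2 σ hσ
  refine ⟨g, ?_⟩
  rw [he, Spec.map_comp, Category.assoc, ← Scheme.Hom.SpecMap_residueFieldMap_fromSpecResidueField]
  congr 1
  rw [← Iso.symm_hom]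
  exact (Scheme.residueFieldCongr_fromSpecResidueField e.symm).symm

/-- Geometric points of a quotient lift. -/
theorem exists_lift (hp : SGA1.IsQuot ρ p) {Ω : Type u} [Field Ω] [IsAlgClosed Ω]
    (η : Spec (CommRingCat.of Ω) ⟶ Y) : ∃ τ : Spec (CommRingCat.of Ω) ⟶ X, τ ≫ p = η := by
  obtain ⟨⟨y, i⟩, rfl⟩ := (Scheme.SpecToEquivOfField Ω Y).symm.surjective η
  obtain ⟨x, rfl⟩ := SGA1Q.surjective hp y
  letI := (p.residueFieldMap x).hom.toAlgebra
  letI : Algebra (Y.residueField (p x)) Ω := i.hom.toAlgebra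
  haveI : Normal (Y.residueField (p x)) (X.residueField x) := (SGA1Q.normal_and_stabilizer_surjective hp x).1
  let φ : X.residueField x →ₐ[Y.residueField (p x)] Ω := IsAlgClosed.lift
  refine ⟨Spec.map (CommRingCat.ofHom φ.toRingHom) ≫ X.fromSpecResidueField x, ?_⟩
  show _ = Spec.map i ≫ Y.fromSpecResidueField (p x)
  rw [Category.assoc, ← Scheme.Hom.SpecMap_residueFieldMap_fromSpecResidueField, ← Spec.map_comp_assoc]
  congr 2
  ext c
  exact φ.commutes c

/-- A morphism injective on geometric points is universally injective. -/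
theorem universallyInjective_of_geom {S T : Scheme.{u}} (φ : S ⟶ T)
    (h : ∀ (Ω : Type u) [Field Ω] [IsAlgClosed Ω] (a b : Spec (CommRingCat.of Ω) ⟶ S), a ≫ φ = b ≫ φ → a = b) :
    UniversallyInjective φ := by
  rw [UniversallyInjective.iff_diagonal]
  refine ⟨fun z => ?_⟩
  let Ω := AlgebraicClosure ((pullback φ φ).residueField z)
  let ζ : Spec (CommRingCat.of Ω) ⟶ pullback φ φ :=
    Spec.map (CommRingCat.ofHom (algebraMap ((pullback φ φ).residueField z) Ω)) ≫ (pullback φ φ).fromSpecResidueField z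
  have hab := h Ω (ζ ≫ pullback.fst φ φ) (ζ ≫ pullback.snd φ φ) (by simp only [Category.assoc, pullback.condition])
  have hζ : ζ = (ζ ≫ pullback.fst φ φ) ≫ pullback.diagonal φ := by
    apply pullback.hom_ext
    · rw [Category.assoc _ (pullback.diagonal φ), pullback.diagonal_fst, Category.comp_id]
    · rw [Category.assoc _ (pullback.diagonal φ), pullback.diagonal_snd, Category.comp_id]
      exact hab.symm
  refine ⟨(ζ ≫ pullback.fst φ φ) (IsLocalRing.closedPoint Ω), ?_⟩
  rw [← Scheme.Hom.comp_apply, ← hζ]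
  exact Scheme.fromSpecResidueField_apply z _

end Groth.Agent.ZH85.Quot
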